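import Mathlib
import Cfsg.Prelude.Def_GeometricClasses
import Cfsg.Agent.ClassicalGeometry.SympBasic

/-!
# Instances of the geometric subgroups of `Sp₄(q)` (helper16)

`nd_decomp` : a decomposition into two orthogonal non-degenerate planes; `ti_decomp` : into two totally isotropic
planes; `exists_field` : a self-adjoint subfield of degree 2 with `f(kv, v) = 0`.
-/

set_option autoImplicit false

namespace Cfsg.Agent.H16.PSp4

open Cfsg Cfsg.Geo Matrix Cfsg.Agent.ClassicalGeometry.SympBasic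

universe u

variable {F : Type u} [Field F]

/-- the coordinate subspaces of a partition of the coordinates -/
def DD (F : Type u) [Field F] (f : Fin 2 ⊕ Fin 2 → Fin 2) (i : Fin 2) : Submodule F (Fin 2 ⊕ Fin 2 → F) where
  carrier := {v | ∀ j, f j ≠ i → v j = 0}
  add_mem' {a b} ha hb := fun j hj => by rw [Pi.add_apply, ha j hj, hb j hj, add_zero]
  zero_mem' := fun j _ => rfl
  smul_mem' c a ha := fun j hj => by rw [Pi.smul_apply, ha j hj, smul_zero]

theorem mem_DD {f : Fin 2 ⊕ Fin 2 → Fin 2} {i : Fin 2} {v : Fin 2 ⊕ Fin 2 → F} :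
    v ∈ DD F f i ↔ ∀ j, f j ≠ i → v j = 0 := Iff.rfl

/-- coordinates on a coordinate subspace -/
def ddEquiv (f : Fin 2 ⊕ Fin 2 → Fin 2) (i : Fin 2) : DD F f i ≃ₗ[F] ({j // f j = i} → F) where
  toFun v j := v.1 j
  map_add' u v := rfl
  map_smul' c u := rfl
  invFun w := ⟨fun j => if h : f j = i then w ⟨j, h⟩ else 0, fun j hj => by simp [hj]⟩
  left_inv v := by
    apply Subtype.ext
    funext j
    by_cases h : f j = i
    · simp [h]
    · simp [h, v.2 j h]
  right_inv w := by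
    funext j
    simp [j.2]

theorem finrank_DD (f : Fin 2 ⊕ Fin 2 → Fin 2) (i : Fin 2) :
    Module.finrank F (DD F f i) = Fintype.card {j // f j = i} := by
  rw [(ddEquiv f i).finrank_eq, Module.finrank_fintype_fun_eq_card]

theorem decomp_DD {f : Fin 2 ⊕ Fin 2 → Fin 2} (hf : ∀ i, Fintype.card {j // f j = i} = 2) :
    IsMDecomposition 2 (DD F f) := by
  refine ⟨le_rfl, by norm_num, fun i => ?_, ?_, ?_⟩
  · rw [finrank_DD, hf]
  · rw [iSupIndep_pair (i := 0) (j := 1) (by decide) (by decide)]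
    rw [Submodule.disjoint_def]
    intro x h0 h1
    funext j
    by_cases h : f j = 0
    · exact h1 j (by rw [h]; decide)
    · exact h0 j h
  · rw [eq_top_iff]
    intro v _
    have h1 : v = (fun j => if f j = 0 then v j else 0) + (fun j => if f j = 1 then v j else 0) := by
      funext j
      rw [Pi.add_apply]
      have : f j = 0 ∨ f j = 1 := by
        generalize f j = k
        fin_cases k <;> simp
      rcases this with h | h <;> simp [h]
    rw [h1]
    refine Submodule.add_mem _ (Submodule.mem_iSup_of_mem 0 ?_) (Submodule.mem_iSup_of_mem 1 ?_)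
    · intro j hj
      simp [hj]
    · intro j hj
      simp [hj]

/-- two orthogonal non-degenerate planes -/
theorem nd_decomp : ∃ D : Fin 2 → Submodule F (Fin 2 ⊕ Fin 2 → F),
    IsNondegenerateMDecomposition (sympForm 2 F) 2 D := by
  refine ⟨DD F (Sum.elim id id), decomp_DD (by decide), fun i w hw hw0 => ?_, fun i j hij u hu v hv => ?_⟩
  · have key : ∃ x ∈ DD F (Sum.elim id id) i, sympForm 2 F x w ≠ 0 := by
      obtain ⟨j, hj⟩ := Function.ne_iff.1 hw0
      rw [Pi.zero_apply] at hj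
      rcases j with j | j
      · have hji : j = i := by
          by_contra h
          exact hj (hw (Sum.inl j) h)
        subst hji
        refine ⟨Pi.single (Sum.inr j) 1, fun k hk => ?_, ?_⟩
        · rw [Pi.single_eq_of_ne]
          rintro rfl
          exact hk rfl
        · rwa [sympForm_single_inr_left]
      · have hji : j = i := by
          by_contra h
          exact hj (hw (Sum.inr j) h)
        subst hji
        refine ⟨Pi.single (Sum.inl j) 1, fun k hk => ?_, ?_⟩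
        · rw [Pi.single_eq_of_ne]
          rintro rfl
          exact hk rfl
        · rw [sympForm_single_inl_left]
          exact neg_ne_zero.2 hj
    obtain ⟨x, hx, hxw⟩ := key
    refine ⟨⟨x, hx, hxw⟩, x, hx, ?_⟩
    rw [sympForm_swap]
    exact neg_ne_zero.2 hxw
  · rw [sympForm_eq_sum]
    refine Finset.sum_eq_zero fun k _ => ?_
    by_cases hk : k = i
    · have hk2 : k ≠ j := fun h => hij (hk.symm.trans h)
      rw [hv (Sum.inl k) hk2, hv (Sum.inr k) hk2]
      ring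
    · rw [hu (Sum.inl k) hk, hu (Sum.inr k) hk]
      ring

/-- two totally isotropic planes -/
theorem ti_decomp : ∃ D : Fin 2 → Submodule F (Fin 2 ⊕ Fin 2 → F),
    IsMDecomposition 2 D ∧ ∀ i, IsTotallySingularFor (sympForm 2 F) (D i) := by
  refine ⟨DD F (Sum.elim (fun _ => 0) (fun _ => 1)), decomp_DD (by decide), fun i u hu v hv => ?_⟩
  rw [sympForm_eq_sum]
  refine Finset.sum_eq_zero fun k _ => ?_
  have h01 : i = 0 ∨ i = 1 := by fin_cases i <;> simp
  rcases h01 with rfl | rfl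
  · rw [hu (Sum.inr k) (by simp), hv (Sum.inr k) (by simp)]
    ring
  · rw [hu (Sum.inl k) (by simp), hv (Sum.inl k) (by simp)]
    ring

section Field2

/-- the matrix `diag(B, Bᵀ)` with `B² = a` -/
def AA (a : F) : Matrix (Fin 2 ⊕ Fin 2) (Fin 2 ⊕ Fin 2) F :=
  Matrix.fromBlocks !![0, a; 1, 0] 0 0 !![0, 1; a, 0]

theorem AA_sq (a : F) : AA a * AA a = a • (1 : Matrix (Fin 2 ⊕ Fin 2) (Fin 2 ⊕ Fin 2) F) := by
  rw [AA, Matrix.fromBlocks_multiply, ← Matrix.fromBlocks_one, Matrix.fromBlocks_smul]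
  congr 1 <;> ext i j <;> fin_cases i <;> fin_cases j <;> simp

/-- the subfield -/
def KK (a : F) : Subalgebra F (Matrix (Fin 2 ⊕ Fin 2) (Fin 2 ⊕ Fin 2) F) where
  carrier := {X | ∃ c d : F, X = c • (1 : Matrix (Fin 2 ⊕ Fin 2) (Fin 2 ⊕ Fin 2) F) + d • AA a}
  mul_mem' := by
    rintro X Y ⟨c, d, rfl⟩ ⟨c', d', rfl⟩
    refine ⟨c * c' + a * (d * d'), c * d' + d * c', ?_⟩
    simp only [add_mul, mul_add, smul_mul_smul_comm, one_mul, mul_one, AA_sq]
    module
  add_mem' := by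
    rintro X Y ⟨c, d, rfl⟩ ⟨c', d', rfl⟩
    exact ⟨c + c', d + d', by module⟩
  algebraMap_mem' := fun r => ⟨r, 0, by rw [Algebra.algebraMap_eq_smul_one]; module⟩

theorem mem_KK {a : F} {X : Matrix (Fin 2 ⊕ Fin 2) (Fin 2 ⊕ Fin 2) F} :
    X ∈ KK a ↔ ∃ c d : F, X = c • (1 : Matrix (Fin 2 ⊕ Fin 2) (Fin 2 ⊕ Fin 2) F) + d • AA a := Iff.rfl

theorem cd_entries (a c d : F) :
    (c • (1 : Matrix (Fin 2 ⊕ Fin 2) (Fin 2 ⊕ Fin 2) F) + d • AA a) (Sum.inl 0) (Sum.inl 0) = c ∧
    (c • (1 : Matrix (Fin 2 ⊕ Fin 2) (Fin 2 ⊕ Fin 2) F) + d • AA a) (Sum.inl 1) (Sum.inl 0) = d := by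
  constructor <;> simp [AA]

/-- the linear parametrization -/
noncomputable def kkEquiv (a : F) : (F × F) ≃ₗ[F] KK a :=
  LinearEquiv.ofBijective
    { toFun := fun x => (⟨x.1 • 1 + x.2 • AA a, x.1, x.2, rfl⟩ : KK a)
      map_add' := fun x y => Subtype.ext (by
        change (x.1 + y.1) • (1 : Matrix (Fin 2 ⊕ Fin 2) (Fin 2 ⊕ Fin 2) F) + (x.2 + y.2) • AA a =
          (x.1 • 1 + x.2 • AA a) + (y.1 • 1 + y.2 • AA a)
        module)
      map_smul' := fun c x => Subtype.ext (by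
        change (c * x.1) • (1 : Matrix (Fin 2 ⊕ Fin 2) (Fin 2 ⊕ Fin 2) F) + (c * x.2) • AA a =
          c • (x.1 • 1 + x.2 • AA a)
        module) }
    ⟨fun x y h => by
      have h1 : x.1 • (1 : Matrix (Fin 2 ⊕ Fin 2) (Fin 2 ⊕ Fin 2) F) + x.2 • AA a = y.1 • 1 + y.2 • AA a :=
        congrArg Subtype.val h
      have h2 := cd_entries a x.1 x.2
      rw [h1] at h2
      have h3 := cd_entries a y.1 y.2
      exact Prod.ext (h2.1.symm.trans h3.1) (h2.2.symm.trans h3.2),
    fun X => by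
      obtain ⟨c, d, h⟩ := X.2
      exact ⟨(c, d), Subtype.ext h.symm⟩⟩

theorem isField_KK {a : F} (ha : ¬ IsSquare a) : IsFieldSubalgebra 2 (KK a) := by
  refine ⟨?_, ?_, ?_⟩
  · rintro X ⟨c, d, rfl⟩ Y ⟨c', d', rfl⟩
    simp only [add_mul, mul_add, smul_mul_smul_comm, one_mul, mul_one, AA_sq]
    module
  · rintro X ⟨c, d, rfl⟩ h0
    have hn : c ^ 2 - a * d ^ 2 ≠ 0 := by
      intro h
      by_cases hd : d = 0
      · subst hd
        have hc : c = 0 := by
          have : c ^ 2 = 0 := by linear_combination h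
          exact pow_eq_zero_iff (two_ne_zero) |>.1 this
        subst hc
        exact h0 (by simp)
      · refine ha ⟨c / d, ?_⟩
        field_simp
        linear_combination -h
    refine ⟨(c / (c ^ 2 - a * d ^ 2)) • 1 + (-d / (c ^ 2 - a * d ^ 2)) • AA a, ⟨_, _, rfl⟩, ?_⟩
    simp only [add_mul, mul_add, smul_mul_smul_comm, one_mul, mul_one, AA_sq]
    have e1 : c * (c / (c ^ 2 - a * d ^ 2)) + d * (-d / (c ^ 2 - a * d ^ 2)) * a = 1 := by
      field_simp
      ring
    have e2 : c * (-d / (c ^ 2 - a * d ^ 2)) + d * (c / (c ^ 2 - a * d ^ 2)) = 0 := by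
      field_simp
      ring
    calc _ = (c * (c / (c ^ 2 - a * d ^ 2)) + d * (-d / (c ^ 2 - a * d ^ 2)) * a) •
          (1 : Matrix (Fin 2 ⊕ Fin 2) (Fin 2 ⊕ Fin 2) F) +
          (c * (-d / (c ^ 2 - a * d ^ 2)) + d * (c / (c ^ 2 - a * d ^ 2))) • AA a := by module
      _ = 1 := by rw [e1, e2, one_smul, zero_smul, add_zero]
  · rw [← (kkEquiv a).finrank_eq, Module.finrank_prod, Module.finrank_self]

theorem AA_mulVec (a : F) (v : Fin 2 ⊕ Fin 2 → F) :
    (AA a *ᵥ v) (Sum.inl 0) = a * v (Sum.inl 1) ∧ (AA a *ᵥ v) (Sum.inl 1) = v (Sum.inl 0) ∧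
    (AA a *ᵥ v) (Sum.inr 0) = v (Sum.inr 1) ∧ (AA a *ᵥ v) (Sum.inr 1) = a * v (Sum.inr 0) := by
  refine ⟨?_, ?_, ?_, ?_⟩ <;>
    simp [AA, Matrix.mulVec, dotProduct, Fintype.sum_sum_type, Fin.sum_univ_two]

theorem sa_KK (a : F) : IsSelfAdjointFor (sympForm 2 F) (KK a) := by
  rintro X ⟨c, d, rfl⟩ u v
  have key : sympForm 2 F (AA a *ᵥ u) v = sympForm 2 F u (AA a *ᵥ v) := by
    rw [sympForm_eq_sum, sympForm_eq_sum, Fin.sum_univ_two, Fin.sum_univ_two]
    obtain ⟨e1, e2, e3, e4⟩ := AA_mulVec a u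
    obtain ⟨f1, f2, f3, f4⟩ := AA_mulVec a v
    rw [e1, e2, e3, e4, f1, f2, f3, f4]
    ring
  rw [Matrix.add_mulVec, Matrix.add_mulVec, Matrix.smul_mulVec, Matrix.smul_mulVec, Matrix.smul_mulVec,
    Matrix.smul_mulVec, Matrix.one_mulVec, Matrix.one_mulVec, sympForm_add_left, sympForm_add_right,
    sympForm_smul_left, sympForm_smul_left, sympForm_smul_right, sympForm_smul_right, key]

theorem alt_KK (h2 : (2 : F) ≠ 0) (a : F) : ∀ k ∈ KK a, ∀ v, sympForm 2 F (k *ᵥ v) v = 0 := by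
  intro k hk v
  have h1 := sa_KK a k hk v v
  rw [sympForm_swap v (k *ᵥ v)] at h1
  have h3 : (2 : F) * sympForm 2 F (k *ᵥ v) v = 0 := by linear_combination h1
  exact (mul_eq_zero.1 h3).resolve_left h2

theorem exists_field [Fintype F] (h2 : (2 : F) ≠ 0) :
    ∃ K : Subalgebra F (Matrix (Fin 2 ⊕ Fin 2) (Fin 2 ⊕ Fin 2) F), IsFieldSubalgebra 2 K ∧
      IsSelfAdjointFor (sympForm 2 F) K ∧ ∀ k ∈ K, ∀ v, sympForm 2 F (k *ᵥ v) v = 0 := by
  have hr : ringChar F ≠ 2 := by
    intro h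
    apply h2
    have := ringChar.Nat.cast_ringChar (R := F)
    rw [h] at this
    exact_mod_cast this
  obtain ⟨a, ha⟩ := FiniteField.exists_nonsquare hr
  exact ⟨KK a, isField_KK ha, sa_KK a, alt_KK h2 a⟩

end Field2

end Cfsg.Agent.H16.PSp4
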