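import Mathlib
import Cfsg.Agent.H940.SepTyp

/-!
# Maximal subgroups over the parabolics (helper16)

`exists_two` : a group with a root group datum of rank 2 in characteristic `p` has two maximal subgroups which are
apart and whose indices are `1` modulo `p`.
-/

set_option autoImplicit false

namespace Cfsg.Agent.H16.PSp4

open Subgroup Cfsg.Agent.H940 Cfsg.Agent.H940.MaxCls Cfsg.Agent.Omega.ML.Ex.Typ Cfsg.Agent.H744.SepRgd
open CoxeterSystem Cfsg.Agent.ChevalleyStructure.CoxeterGeom Cfsg.Agent.Tits.Roots Cfsg.Agent.Tits.Core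
  Cfsg.Agent.Tits.RootComb Cfsg.Agent.Tits.Exchange Cfsg.Agent.Nodes.Reps Cfsg.Agent.Nodes.BNOf
  Cfsg.Agent.Nodes.StabComb Cfsg.Agent.Nodes.Bruhat Cfsg.Agent.Nodes.OppDec Cfsg.Agent.Nodes.LeviDec
  Cfsg.Agent.KFacts.RgdAut

universe u

theorem exists_two {p : ℕ} [Fact p.Prime] {M : CoxeterMatrix (Fin 2)} {K : Type u} [Group K] [Finite K]
    (hK : HasRGDT p M K) : ∃ C0 C1 : Subgroup K, IsCoatom C0 ∧ IsCoatom C1 ∧ Apart C0 C1 ∧
      C0.index ≡ 1 [MOD p] ∧ C1.index ≡ 1 [MOD p] := by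
  obtain ⟨A, h, T, n, X, hW, R, hX⟩ := hK
  have hG := Cfsg.Agent.KFacts.RgdFilt.GG_eq_top (T := T) hX
  set U : Subgroup K := RGD.Sup X (RGD.Pos M.toCoxeterSystem h) with hU
  have hpU : IsPGroup p ↥U := R.isPGroup_Upos
  have hndvd : ¬ p ∣ U.index := by
    have := KFacts.RgdSyl.not_dvd_relIndex R
    rwa [hG, Subgroup.relIndex_top_right] at this
  obtain ⟨P, hP⟩ : ∃ P : Sylow p K, (P : Subgroup K) = U := ⟨hpU.toSylow hndvd, rfl⟩
  have hN : normalizer ((P : Subgroup K) : Set K) ≤ RGD.B M.toCoxeterSystem h T X := by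
    intro g hg
    refine mem_of_conj_le R hG le_rfl fun x hx => ?_
    refine RGD.U_le_B ?_
    rw [hP] at hg
    exact (mem_normalizer_iff.1 hg x).1 hx
  have hc : Fintype.card (Fin 2) = 2 := Fintype.card_fin 2
  let i0 : Fin (Fintype.card (Fin 2)) := ⟨0, by rw [hc]; norm_num⟩
  let i1 : Fin (Fintype.card (Fin 2)) := ⟨1, by rw [hc]; norm_num⟩
  have h01 : i0 ≠ i1 := by
    intro h
    have h1 : (0 : ℕ) = 1 := congrArg Fin.val h
    exact absurd h1 (by norm_num)
  obtain ⟨C0, hC0, hle0⟩ := exists_coatom_ge (mp_ne_top R hG i0)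
  obtain ⟨C1, hC1, hle1⟩ := exists_coatom_ge (mp_ne_top R hG i1)
  exact ⟨C0, C1, hC0, hC1, (apart_mp R hG h01).mono hle0 hle1,
    index_modEq_one P ((hN.trans B_le_PJ).trans hle0), index_modEq_one P ((hN.trans B_le_PJ).trans hle1)⟩

/-- two apart proper subgroups are not conjugate -/
theorem Apart.not_conj {G : Type*} [Group G] {A B : Subgroup G} (h : Apart A B) (hA : A ≠ ⊤) (g : G) :
    Subgroup.map (MulAut.conj g).toMonoidHom A ≠ B := by
  intro hg
  apply hA
  refine h g⁻¹ A (fun _ hx => hx) fun x hx => ?_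
  rw [← hg, mem_map_conj] at hx
  simpa using hx

/-- subgroups of different indices are not conjugate -/
theorem not_conj_of_index {G : Type*} [Group G] {A B : Subgroup G} (h : A.index ≠ B.index) (g : G) :
    Subgroup.map (MulAut.conj g).toMonoidHom A ≠ B := by
  intro hg
  apply h
  rw [← hg]
  exact (Subgroup.index_map_equiv A (MulAut.conj g)).symm

end Cfsg.Agent.H16.PSp4
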