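import Mathlib
import Cfsg.Prelude.Def_Classical
import Cfsg.Agent.H940.SepTyp
import Cfsg.Agent.S5786
import Cfsg.Agent.S0822
import Cfsg.Agent.H16.PSp4.Bridge
import Cfsg.Agent.H16.PSp4.Inst
import Cfsg.Agent.H16.PSp4.Two

/-!
# Five classes of maximal subgroups of `PSp₄(q)`, `q` odd (helper16)

`psp4_odd` (`q ≥ 5`), `psp4_3` (`q = 3`).
-/

set_option autoImplicit false

namespace Cfsg.Agent.H16.PSp4

open Cfsg Cfsg.Geo Matrix Cfsg.Agent.H940.MaxCls Cfsg.Agent.H940.SepTyp Cfsg.Agent.Omega.ML.Ex.Typ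
open Cfsg.Agent.H909.Sp4List Cfsg.Agent.H909.Sp4Arith Cfsg.Agent.H909.Sp4Geom

/-! ### arithmetic -/

theorem idx2 {q i : ℕ} (hq : 3 ≤ q) (h : i * a2 q = aS q) : i * 2 = q ^ 2 * (q ^ 2 + 1) := by
  obtain ⟨k, rfl⟩ := Nat.exists_eq_add_of_le' hq
  rw [a2, aS, sub2, sub4] at h
  have h1 : ((k + 3) * ((k + 2) * (k + 4))) ^ 2 * (i * 2) =
      ((k + 3) * ((k + 2) * (k + 4))) ^ 2 * ((k + 3) ^ 2 * ((k + 3) ^ 2 + 1)) := by
    calc _ = i * (2 * ((k + 3) * ((k + 2) * (k + 4))) ^ 2) := by ring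
      _ = _ := by rw [h]; ring
  exact Nat.eq_of_mul_eq_mul_left (by positivity) h1

theorem idx3 {q i : ℕ} (hq : 3 ≤ q) (h : i * a3 q = aS q) : i * 2 = q ^ 2 * (q * (q + 1) * (q ^ 2 + 1)) := by
  obtain ⟨k, rfl⟩ := Nat.exists_eq_add_of_le' hq
  rw [a3, aS, sub2, sub4, sub1] at h
  have h1 : ((k + 3) * (k + 2) * ((k + 2) * (k + 4))) * (i * 2) =
      ((k + 3) * (k + 2) * ((k + 2) * (k + 4))) *
        ((k + 3) ^ 2 * ((k + 3) * (k + 3 + 1) * ((k + 3) ^ 2 + 1))) := by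
    calc _ = i * (2 * ((k + 3) * (k + 2) * ((k + 2) * (k + 4)))) := by ring
      _ = _ := by rw [h]; ring
  exact Nat.eq_of_mul_eq_mul_left (by positivity) h1

theorem idx4 {q i : ℕ} (hq : 3 ≤ q) (h : i * a4 q = aS q) : i * 2 = q ^ 2 * (q ^ 2 - 1) := by
  obtain ⟨k, rfl⟩ := Nat.exists_eq_add_of_le' hq
  rw [a4, aS, sub2, sub4] at h
  rw [sub2]
  have h1 : ((k + 3) ^ 2 * ((k + 2) * (k + 4) * ((k + 3) ^ 2 + 1))) * (i * 2) =
      ((k + 3) ^ 2 * ((k + 2) * (k + 4) * ((k + 3) ^ 2 + 1))) * ((k + 3) ^ 2 * ((k + 2) * (k + 4))) := by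
    calc _ = i * (2 * ((k + 3) ^ 2 * ((k + 2) * (k + 4) * ((k + 3) ^ 2 + 1)))) := by ring
      _ = _ := by rw [h]; ring
  exact Nat.eq_of_mul_eq_mul_left (by positivity) h1

theorem ne23 {q i j : ℕ} (hq : 3 ≤ q) (hi : i * 2 = q ^ 2 * (q ^ 2 + 1))
    (hj : j * 2 = q ^ 2 * (q * (q + 1) * (q ^ 2 + 1))) : i ≠ j := by
  rintro rfl
  rw [hi] at hj
  have h1 : (q ^ 2 * (q ^ 2 + 1)) * 1 = (q ^ 2 * (q ^ 2 + 1)) * (q * (q + 1)) := by linarith
  have h2 := Nat.eq_of_mul_eq_mul_left (by positivity) h1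
  nlinarith

theorem ne24 {q i j : ℕ} (hq : 3 ≤ q) (hi : i * 2 = q ^ 2 * (q ^ 2 + 1))
    (hj : j * 2 = q ^ 2 * (q ^ 2 - 1)) : i ≠ j := by
  rintro rfl
  rw [hi] at hj
  have h2 := Nat.eq_of_mul_eq_mul_left (by positivity) hj
  omega

theorem ne34 {q i j : ℕ} (hq : 3 ≤ q) (hi : i * 2 = q ^ 2 * (q * (q + 1) * (q ^ 2 + 1)))
    (hj : j * 2 = q ^ 2 * (q ^ 2 - 1)) : i ≠ j := by
  rintro rfl
  rw [hi] at hj
  have h2 := Nat.eq_of_mul_eq_mul_left (by positivity) hj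
  have h3 : q ^ 2 - 1 < q ^ 2 + 1 := by omega
  have h4 : 1 * (q ^ 2 + 1) ≤ q * (q + 1) * (q ^ 2 + 1) := by
    apply Nat.mul_le_mul_right
    nlinarith
  omega

theorem dvd_idx {p q i X : ℕ} (hp : p.Prime) (hp2 : p ≠ 2) (hpq : p ∣ q) (h : i * 2 = q ^ 2 * X) : p ∣ i := by
  have h1 : p ∣ i * 2 := by
    rw [h]
    exact Dvd.dvd.mul_right (dvd_pow hpq two_ne_zero) X
  refine (Nat.Coprime.dvd_of_dvd_mul_right ?_ h1)
  exact (Nat.coprime_primes hp Nat.prime_two).2 hp2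

/-! ### the maximal subgroups -/

section

variable {F : Type} [Field F] [Fintype F]

theorem exists_T2 (hodd : Odd (Fintype.card F)) : ∃ H : Subgroup (GL (Fin 2 ⊕ Fin 2) F),
    IsMaximalIn (spGL 2 F) H ∧ Nat.card H = a2 (Nat.card F) := by
  obtain ⟨D, hD⟩ := nd_decomp (F := F)
  exact ⟨_, (Cfsg.Agent.S5786.result hodd).2.1 D hD, card_of_T2 (two_ne hodd) ⟨D, hD, rfl⟩⟩

theorem exists_T3 (hodd : Odd (Fintype.card F)) (h5 : 5 ≤ Fintype.card F) :
    ∃ H : Subgroup (GL (Fin 2 ⊕ Fin 2) F), IsMaximalIn (spGL 2 F) H ∧ Nat.card H = a3 (Nat.card F) := by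
  obtain ⟨D, hD, hs⟩ := ti_decomp (F := F)
  exact ⟨_, (Cfsg.Agent.S5786.result hodd).2.2.1 h5 D hD hs, card_of_T3 (two_ne hodd) ⟨h5, D, hD, hs, rfl⟩⟩

theorem exists_T4 (hodd : Odd (Fintype.card F)) : ∃ H : Subgroup (GL (Fin 2 ⊕ Fin 2) F),
    IsMaximalIn (spGL 2 F) H ∧ Nat.card H = a4 (Nat.card F) := by
  obtain ⟨K, h1, h2, h3⟩ := exists_field (two_ne hodd)
  exact ⟨_, (Cfsg.Agent.S5786.result hodd).2.2.2.1 K h1 h2 h3, card_of_T4 (two_ne hodd) ⟨K, h1, h2, h3, rfl⟩⟩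

theorem hm_of_odd (hodd : Odd (Fintype.card F)) :
    3 ≤ 2 ∨ (2 = 2 ∧ 3 ≤ Fintype.card F) ∨ 4 ≤ Fintype.card F := by
  refine Or.inr (Or.inl ⟨rfl, ?_⟩)
  rw [← Nat.card_eq_fintype_card]
  exact three_le hodd

theorem co_index (hodd : Odd (Fintype.card F)) {H : Subgroup (GL (Fin 2 ⊕ Fin 2) F)}
    (hH : IsMaximalIn (spGL 2 F) H) :
    IsCoatom (img (m := 2) H) ∧ (img (m := 2) H).index * Nat.card H = aS (Nat.card F) :=
  ⟨co_of_max (hm_of_odd hodd) hH, (index_mul (hm_of_odd hodd) hH).trans card_S⟩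

end

/-- **`q ≥ 5`** -/
theorem psp4_odd (F : Type) [Field F] [Fintype F] (hodd : Odd (Fintype.card F)) (h5 : 5 ≤ Fintype.card F) :
    Sep 5 (PSp 2 F) := by
  obtain ⟨p, hpF⟩ := CharP.exists F
  have hp : p.Prime := CharP.char_is_prime F p
  have : Fact p.Prime := ⟨hp⟩
  have hq := three_le hodd
  have hpq : p ∣ Nat.card F := by
    obtain ⟨n, -, hn⟩ := FiniteField.card F p
    rw [Nat.card_eq_fintype_card, hn]
    exact dvd_pow_self p n.ne_zero
  have hp2 : p ≠ 2 := by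
    rintro rfl
    rw [← Nat.card_eq_fintype_card] at hodd
    exact (Nat.not_even_iff_odd.2 hodd) (even_iff_two_dvd.2 hpq)
  obtain ⟨H2, m2, c2⟩ := exists_T2 hodd
  obtain ⟨H3, m3, c3⟩ := exists_T3 hodd h5
  obtain ⟨H4, m4, c4⟩ := exists_T4 hodd
  obtain ⟨co2, i2⟩ := co_index hodd m2
  obtain ⟨co3, i3⟩ := co_index hodd m3
  obtain ⟨co4, i4⟩ := co_index hodd m4
  rw [c2] at i2
  rw [c3] at i3
  rw [c4] at i4
  have i2' := idx2 hq i2
  have i3' := idx3 hq i3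
  have i4' := idx4 hq i4
  have n23 := ne23 hq i2' i3'
  have n24 := ne24 hq i2' i4'
  have n34 := ne34 hq i3' i4'
  have hK : HasRGDT p (CoxeterMatrix.B 2) (PSp 2 F) := typ_PSp (by norm_num)
  have hfin : Finite (PSp 2 F) := inferInstance
  refine sep_typ_coatoms hK (k := 3) ![img (m := 2) H2, img (m := 2) H3, img (m := 2) H4] ?_ ?_ ?_
  · intro i
    fin_cases i
    · exact co2
    · exact co3
    · exact co4
  · intro i j hij g
    have : (i = 0 ∧ j = 1) ∨ (i = 0 ∧ j = 2) ∨ (i = 1 ∧ j = 2) := by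
      fin_cases i <;> fin_cases j <;> simp_all
    rcases this with ⟨rfl, rfl⟩ | ⟨rfl, rfl⟩ | ⟨rfl, rfl⟩
    · exact not_conj_of_index n23 g
    · exact not_conj_of_index n24 g
    · exact not_conj_of_index n34 g
  · intro i
    fin_cases i
    · exact dvd_idx hp hp2 hpq i2'
    · exact dvd_idx hp hp2 hpq i3'
    · exact dvd_idx hp hp2 hpq i4'

/-- **`q = 3`** -/
theorem psp4_3 (F : Type) [Field F] [Fintype F] (h3 : Fintype.card F = 3) : Sep 5 (PSp 2 F) := by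
  have hodd : Odd (Fintype.card F) := by rw [h3]; decide
  have hq : Nat.card F = 3 := by rw [Nat.card_eq_fintype_card, h3]
  have : Fact (Nat.Prime 3) := ⟨Nat.prime_three⟩
  have : Fact (Nat.Prime 2) := ⟨Nat.prime_two⟩
  have hF3 : CharP F 3 := by
    obtain ⟨p, hpF⟩ := CharP.exists F
    obtain ⟨n, hp, hn⟩ := FiniteField.card F p
    rw [h3] at hn
    have : p = 3 := by
      have h1 : p ∣ 3 := by
        rw [hn]
        exact dvd_pow_self p n.ne_zero
      exact (Nat.prime_dvd_prime_iff_eq hp Nat.prime_three).1 h1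
    rwa [this] at hpF
  obtain ⟨H4, m4, c4⟩ := exists_T4 hodd
  obtain ⟨co4, i4⟩ := co_index hodd m4
  rw [c4, hq] at i4
  have i4' := idx4 (le_refl 3) i4
  have hi4 : (img (m := 2) H4).index = 36 := by
    norm_num at i4'
    omega
  have hcard : Nat.card (PSp 2 F) ∣ 51840 := by
    have h1 := Subgroup.card_dvd_of_surjective (prj 2 F) prj_surj
    rw [card_S, hq] at h1
    have h2 : aS 3 = 51840 := by
      rw [aS]
      norm_num
    rwa [h2] at h1
  -- the characteristic 2 datum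
  have hK : HasRGDT 2 (CoxeterMatrix.B 2) (PSp 2 F) := by
    let F4 := GaloisField 2 2
    have : Fintype F4 := Fintype.ofFinite F4
    have hc : Fintype.card F4 = 4 := by
      rw [← Nat.card_eq_fintype_card, GaloisField.card 2 2 (by norm_num)]
      norm_num
    obtain ⟨m, hm, h1⟩ := typ_PSU (F := F4) (q := 2) (N := 4) (p := 2) (by rw [hc]; norm_num) (by norm_num)
    have hm2 : m = 2 := by omega
    subst hm2
    obtain ⟨e⟩ := Cfsg.Agent.S0822.result (F := F4) (K := F) hc h3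
    exact h1.of_equiv e
  have hfin : Finite (PSp 2 F) := inferInstance
  obtain ⟨C0, C1, hC0, hC1, hap, x0, x1⟩ := exists_two (typ_PSp (F := F) (m := 2) (p := 3) (by norm_num))
  have key : ∀ C : Subgroup (PSp 2 F), IsCoatom C → C.index ≡ 1 [MOD 3] → 2 ∣ C.index ∧ C.index ≠ 36 := by
    intro C hC hx
    refine ⟨?_, fun h => ?_⟩
    · by_contra h2
      have hd : C.index ∣ 10368 * 5 := (C.index_dvd_card).trans hcard
      have hn3 : ¬ 3 ∣ C.index := by
        intro h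
        have := hx.symm.trans (Nat.modEq_zero_iff_dvd.2 h)
        exact absurd this (by decide)
      have hcop : Nat.Coprime C.index 10368 := by
        have e : 10368 = 2 ^ 7 * 3 ^ 4 := by norm_num
        rw [e]
        exact Nat.Coprime.mul_right
          (Nat.Coprime.pow_right _ (((Nat.Prime.coprime_iff_not_dvd Nat.prime_two).2 h2).symm))
          (Nat.Coprime.pow_right _ (((Nat.Prime.coprime_iff_not_dvd Nat.prime_three).2 hn3).symm))
      have h5 : C.index ∣ 5 := hcop.dvd_of_dvd_mul_left hd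
      rcases (Nat.dvd_prime (by norm_num)).1 h5 with h6 | h6
      · exact hC.1 (Subgroup.index_eq_one.1 h6)
      · rw [h6] at hx
        exact absurd hx (by decide)
    · rw [h] at hx
      exact absurd hx (by decide)
  obtain ⟨d0, n0⟩ := key C0 hC0 x0
  obtain ⟨d1, n1⟩ := key C1 hC1 x1
  refine sep_typ_coatoms hK (k := 3) ![C0, C1, img (m := 2) H4] ?_ ?_ ?_
  · intro i
    fin_cases i
    · exact hC0
    · exact hC1
    · exact co4
  · intro i j hij g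
    have : (i = 0 ∧ j = 1) ∨ (i = 0 ∧ j = 2) ∨ (i = 1 ∧ j = 2) := by
      fin_cases i <;> fin_cases j <;> simp_all
    rcases this with ⟨rfl, rfl⟩ | ⟨rfl, rfl⟩ | ⟨rfl, rfl⟩
    · exact Apart.not_conj hap hC0.1 g
    · exact not_conj_of_index (A := C0) (B := img (m := 2) H4) (by rw [hi4]; exact n0) g
    · exact not_conj_of_index (A := C1) (B := img (m := 2) H4) (by rw [hi4]; exact n1) g
  · intro i
    fin_cases i
    · exact d0
    · exact d1
    · change 2 ∣ (img (m := 2) H4).index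
      rw [hi4]
      norm_num

end Cfsg.Agent.H16.PSp4
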